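import Mathlib
import Cfsg.Agent.Lib.Helper44.Frob3.Defs

set_option autoImplicit false

/-!
# S4427, package [W]: counting words with `p`-singular product
-/

namespace Cfsg.Agent.Lib.Helper96.Frob3

universe u

/-- a permutation of `p`-power order, no point being fixed by its `p^k`-th power: the number of
points is divisible by `p^(k+1)` -/
theorem dvd_card_of_perm {X : Type*} [Finite X] {p : ℕ} (hp : p.Prime) (ρ : Equiv.Perm X)
    (j k : ℕ) (hρ : ρ ^ (p ^ j) = 1) (hfix : ∀ x, (ρ ^ (p ^ k)) x ≠ x) :
    p ^ (k + 1) ∣ Nat.card X := by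
  classical
  have hper : ∀ x : X, p ^ (k + 1) ∣ Function.minimalPeriod ρ x := by
    intro x
    have h2 : Function.minimalPeriod ρ x ∣ p ^ j := by
      apply Function.IsPeriodicPt.minimalPeriod_dvd
      show ρ^[p ^ j] x = x
      rw [Equiv.Perm.iterate_eq_pow, hρ]
      rfl
    obtain ⟨i, hi, hmp⟩ := (Nat.dvd_prime_pow hp).1 h2
    rw [hmp]
    apply pow_dvd_pow
    by_contra hlt
    have h3 : Function.minimalPeriod ρ x ∣ p ^ k := by
      rw [hmp]
      exact pow_dvd_pow p (by omega)
    have h4 : ρ^[p ^ k] x = x := (Function.isPeriodicPt_iff_minimalPeriod_dvd).2 h3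
    rw [Equiv.Perm.iterate_eq_pow] at h4
    exact hfix x h4
  have hcard : ∀ x : X, p ^ (k + 1) ∣ Nat.card (MulAction.orbit (Subgroup.zpowers ρ) x) := by
    intro x
    have := Fintype.ofFinite (MulAction.orbit (Subgroup.zpowers ρ) x)
    have h1 : Function.minimalPeriod (ρ • ·) x
        = Fintype.card (MulAction.orbit (Subgroup.zpowers ρ) x) :=
      MulAction.minimalPeriod_eq_card ρ x
    rw [Nat.card_eq_fintype_card, ← h1]
    exact hper x
  have := Fintype.ofFinite (MulAction.orbitRel.Quotient (Subgroup.zpowers ρ) X)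
  rw [Nat.card_congr (MulAction.selfEquivSigmaOrbits (Subgroup.zpowers ρ) X), Nat.card_sigma]
  exact Finset.dvd_sum fun ω _ => hcard _

/-- rotation of a word by `t` letters -/
def rotW {ι : Type*} {m : ℕ} (hm : 0 < m) (t : ℕ) (f : Fin m → ι) : Fin m → ι :=
  fun i => f ⟨(i.val + t) % m, Nat.mod_lt _ hm⟩

theorem rotW_add {ι : Type*} {m : ℕ} (hm : 0 < m) (s t : ℕ) (f : Fin m → ι) :
    rotW hm s (rotW hm t f) = rotW hm (s + t) f := by
  funext i
  simp only [rotW]
  congr 1
  ext
  simp only []
  rw [Nat.mod_add_mod, add_assoc]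

theorem rotW_mul_self {ι : Type*} {m : ℕ} (hm : 0 < m) (n : ℕ) (f : Fin m → ι) :
    rotW hm (m * n) f = f := by
  funext i
  simp only [rotW]
  congr 1
  ext
  simp only []
  rw [Nat.add_mul_mod_self_left, Nat.mod_eq_of_lt i.isLt]

/-- rotation by `c` letters as a permutation of the words -/
def rotPerm {ι : Type*} {m : ℕ} (hm : 0 < m) (c : ℕ) : Equiv.Perm (Fin m → ι) where
  toFun := rotW hm c
  invFun := rotW hm (m * c - c)
  left_inv f := by
    rw [rotW_add, Nat.sub_add_cancel (Nat.le_mul_of_pos_left c hm), rotW_mul_self]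
  right_inv f := by
    rw [rotW_add, Nat.add_sub_cancel' (Nat.le_mul_of_pos_left c hm), rotW_mul_self]

theorem rotPerm_pow {ι : Type*} {m : ℕ} (hm : 0 < m) (c t : ℕ) (f : Fin m → ι) :
    (rotPerm hm c ^ t) f = rotW hm (t * c) f := by
  induction t with
  | zero =>
    have := rotW_mul_self hm 0 f
    simpa using this.symm
  | succ t ih =>
    rw [pow_succ', Equiv.Perm.mul_apply, ih]
    show rotW hm c (rotW hm (t * c) f) = _
    rw [rotW_add]
    congr 1
    ring

theorem ofFn_rotW {G ι : Type*} {m : ℕ} (hm : 0 < m) (t : ℕ) (f : Fin m → ι) (σ : ι → G) :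
    List.ofFn (fun i => σ (rotW hm t f i)) = (List.ofFn fun i => σ (f i)).rotate t := by
  apply List.ext_getElem
  · simp
  · intro i h1 h2
    rw [List.getElem_ofFn, List.getElem_rotate, List.getElem_ofFn]
    simp [rotW]

theorem orderOf_mul_swap {G : Type*} [Group G] (x y : G) : orderOf (y * x) = orderOf (x * y) := by
  have e : y * x = MulAut.conj x⁻¹ (x * y) := by
    simp
  rw [e, MulEquiv.orderOf_eq]

theorem orderOf_prod_rotate {G : Type*} [Group G] (l : List G) (n : ℕ) :
    orderOf (l.rotate n).prod = orderOf l.prod := by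
  rw [List.rotate_eq_drop_append_take_mod, List.prod_append, orderOf_mul_swap,
    List.prod_take_mul_prod_drop]

theorem prod_of_periodic {G : Type*} [Group G] (q d : ℕ) (g : Fin (q * d) → G)
    (hper : ∀ (i j : ℕ) (h : i * d + j < q * d) (hj : j < q * d), g ⟨i * d + j, h⟩ = g ⟨j, hj⟩) :
    ∃ x : G, (List.ofFn g).prod = x ^ q := by
  rcases Nat.eq_zero_or_pos q with rfl | hq
  · refine ⟨1, ?_⟩
    have : List.ofFn g = [] := List.eq_nil_of_length_eq_zero (by simp)
    rw [this]
    simp
  have hle : d ≤ q * d := Nat.le_mul_of_pos_left d hq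
  refine ⟨(List.ofFn fun j : Fin d => g ⟨j, lt_of_lt_of_le j.isLt hle⟩).prod, ?_⟩
  rw [List.ofFn_mul]
  have : (fun i : Fin q => List.ofFn fun j : Fin d => g ⟨i * d + j,
      calc
      ↑i * d + j < (i + 1) * d :=
        (Nat.add_lt_add_left j.prop _).trans_eq (by rw [Nat.add_mul, Nat.one_mul])
      _ ≤ _ := Nat.mul_le_mul_right _ i.prop⟩)
      = fun _ : Fin q => List.ofFn fun j : Fin d => g ⟨j, lt_of_lt_of_le j.isLt hle⟩ := by
    funext i
    congr 1
    funext j
    exact hper i j _ _
  rw [this, List.ofFn_const, List.prod_flatten, List.map_replicate, List.prod_replicate]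

theorem words_aux (G : Type u) [Group G] [Finite G] (p : ℕ) (hp : p.Prime) (ι : Type u)
    [Fintype ι] (σ : ι → G) (a k m' : ℕ) (hreg : ∀ g : G, ¬ p ∣ orderOf (g ^ p ^ a)) :
    p ^ (k + 1) ∣ Nat.card {f : Fin (p ^ a * (p ^ k * m')) → ι //
      p ∣ orderOf (List.ofFn fun i => σ (f i)).prod} := by
  rcases Nat.eq_zero_or_pos m' with rfl | hm'
  · have : IsEmpty {f : Fin (p ^ a * (p ^ k * 0)) → ι //
        p ∣ orderOf (List.ofFn fun i => σ (f i)).prod} := by
      constructor
      rintro ⟨f, hf⟩
      have : (List.ofFn fun i => σ (f i)) = [] := List.eq_nil_of_length_eq_zero (by simp)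
      rw [this, List.prod_nil, orderOf_one] at hf
      exact hp.one_lt.ne' (Nat.dvd_one.mp hf)
    rw [Nat.card_of_isEmpty]
    exact dvd_zero _
  · have hm : 0 < p ^ a * (p ^ k * m') := by
      have := hp.pos
      positivity
    have hstab : ∀ f : Fin (p ^ a * (p ^ k * m')) → ι,
        p ∣ orderOf (List.ofFn fun i => σ (rotPerm hm m' f i)).prod ↔
          p ∣ orderOf (List.ofFn fun i => σ (f i)).prod := by
      intro f
      show p ∣ orderOf (List.ofFn fun i => σ (rotW hm m' f i)).prod ↔ _
      rw [ofFn_rotW, orderOf_prod_rotate]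
    refine dvd_card_of_perm hp ((rotPerm hm m').subtypePerm hstab) (a + k) k ?_ ?_
    · ext ⟨f, hf⟩ : 2
      rw [Equiv.Perm.subtypePerm_pow]
      simp only [Equiv.Perm.subtypePerm_apply, Equiv.Perm.coe_one, id_eq]
      rw [rotPerm_pow]
      have : p ^ (a + k) * m' = p ^ a * (p ^ k * m') * 1 := by rw [pow_add]; ring
      rw [this, rotW_mul_self]
    · rintro ⟨f, hf⟩ hfix
      rw [Equiv.Perm.subtypePerm_pow] at hfix
      have h1 : rotW hm (p ^ k * m') f = f := by
        have := congrArg Subtype.val hfix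
        simp only [Equiv.Perm.subtypePerm_apply] at this
        rw [rotPerm_pow] at this
        exact this
      have hper : ∀ (i j : ℕ) (h : i * (p ^ k * m') + j < p ^ a * (p ^ k * m'))
          (hj : j < p ^ a * (p ^ k * m')), f ⟨i * (p ^ k * m') + j, h⟩ = f ⟨j, hj⟩ := by
        intro i
        induction i with
        | zero =>
          intro j h hj
          congr 1
          ext
          simp
        | succ i ih =>
          intro j h hj
          have h' : i * (p ^ k * m') + j < p ^ a * (p ^ k * m') := by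
            rw [Nat.succ_mul] at h
            omega
          rw [← ih j h' hj]
          have := congrFun h1 ⟨i * (p ^ k * m') + j, h'⟩
          rw [← this]
          simp only [rotW]
          congr 1
          ext
          simp only []
          rw [Nat.mod_eq_of_lt (by rw [Nat.succ_mul] at h; omega), Nat.succ_mul]
          omega
      obtain ⟨x, hx⟩ := prod_of_periodic (p ^ a) (p ^ k * m') (fun i => σ (f i))
        (fun i j h hj => congrArg σ (hper i j h hj))
      rw [hx] at hf
      exact hreg x hf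

/-- **[W]** -/
theorem pkgWords : Cfsg.Agent.Lib.Helper44.Frob3.PkgWords.{u} := by
  intro G _ _ p hp ι _ σ j m hdvd
  by_cases hja : j + 1 ≤ (Nat.card G).factorization p
  · rw [Nat.sub_eq_zero_of_le hja, pow_zero]
    exact one_dvd _
  obtain ⟨m', rfl⟩ := hdvd
  obtain ⟨k, rfl⟩ : ∃ k, j = (Nat.card G).factorization p + k :=
    ⟨j - (Nat.card G).factorization p, by omega⟩
  have e1 : (Nat.card G).factorization p + k + 1 - (Nat.card G).factorization p = k + 1 := by
    omega
  have hmm : p ^ ((Nat.card G).factorization p + k) * m'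
      = p ^ (Nat.card G).factorization p * (p ^ k * m') := by rw [pow_add, mul_assoc]
  rw [e1, hmm]
  refine words_aux G p hp ι σ _ k m' ?_
  intro g hdiv
  have hN : Nat.card G ≠ 0 := Nat.card_pos.ne'
  have h1 : (g ^ p ^ (Nat.card G).factorization p) ^
      (Nat.card G / p ^ (Nat.card G).factorization p) = 1 := by
    rw [← pow_mul, Nat.mul_div_cancel' (Nat.ordProj_dvd (Nat.card G) p), pow_card_eq_one']
  have h2 := orderOf_dvd_of_pow_eq_one h1
  exact Nat.not_dvd_ordCompl hp hN (hdiv.trans h2)

end Cfsg.Agent.Lib.Helper96.Frob3
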